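import Cfsg.Agent.Lib.ThDce.Data.Model
import Cfsg.Agent.Lib.ThDce.CSch.Check

/-! Checks of the vertex 10. -/

set_option autoImplicit false
set_option maxRecDepth 20000
set_option Elab.async false

namespace Cfsg.Agent.Lib.ThDce.Data

open Cfsg.Agent.Lib.CosetEnum

theorem blk10_0 : allFrom 0 20 ((cSide CSch.tab CSch.tab_ok).checkBlk model.FL v10) = true := by decide +kernel

theorem blk10_1 : allFrom 20 20 ((cSide CSch.tab CSch.tab_ok).checkBlk model.FL v10) = true := by decide +kernel

theorem blk10_2 : allFrom 40 20 ((cSide CSch.tab CSch.tab_ok).checkBlk model.FL v10) = true := by decide +kernel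

theorem blk10_3 : allFrom 60 20 ((cSide CSch.tab CSch.tab_ok).checkBlk model.FL v10) = true := by decide +kernel

theorem blk10_4 : allFrom 80 20 ((cSide CSch.tab CSch.tab_ok).checkBlk model.FL v10) = true := by decide +kernel

theorem blk10_5 : allFrom 100 20 ((cSide CSch.tab CSch.tab_ok).checkBlk model.FL v10) = true := by decide +kernel

theorem flags10_ok : (cSide CSch.tab CSch.tab_ok).checkFlags model.FL v10 = true := by decide +kernel

theorem ok10 : (cSide CSch.tab CSch.tab_ok).VOK model.FL v10 := by
  refine ⟨flags10_ok, fun b hb => ?_⟩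
  change b < 120 at hb
  by_cases h0a : b < 20
  · exact allFrom_iff.1 blk10_0 b (by omega) (by omega)
  by_cases h1a : b < 40
  · exact allFrom_iff.1 blk10_1 b (by omega) (by omega)
  by_cases h2a : b < 60
  · exact allFrom_iff.1 blk10_2 b (by omega) (by omega)
  by_cases h3a : b < 80
  · exact allFrom_iff.1 blk10_3 b (by omega) (by omega)
  by_cases h4a : b < 100
  · exact allFrom_iff.1 blk10_4 b (by omega) (by omega)
  by_cases h5a : b < 120
  · exact allFrom_iff.1 blk10_5 b (by omega) (by omega)
  omega

end Cfsg.Agent.Lib.ThDce.Data
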