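import Cfsg.Agent.Lib.ThDce.Data.Model
import Cfsg.Agent.Lib.ThDce.CSch.Check

/-! Checks of the vertex 4. -/

set_option autoImplicit false
set_option maxRecDepth 20000
set_option Elab.async false

namespace Cfsg.Agent.Lib.ThDce.Data

open Cfsg.Agent.Lib.CosetEnum

theorem blk4_0 : allFrom 0 20 ((cSide CSch.tab CSch.tab_ok).checkBlk model.FL v4) = true := by decide +kernel

theorem blk4_1 : allFrom 20 20 ((cSide CSch.tab CSch.tab_ok).checkBlk model.FL v4) = true := by decide +kernel

theorem blk4_2 : allFrom 40 20 ((cSide CSch.tab CSch.tab_ok).checkBlk model.FL v4) = true := by decide +kernel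

theorem blk4_3 : allFrom 60 20 ((cSide CSch.tab CSch.tab_ok).checkBlk model.FL v4) = true := by decide +kernel

theorem blk4_4 : allFrom 80 20 ((cSide CSch.tab CSch.tab_ok).checkBlk model.FL v4) = true := by decide +kernel

theorem blk4_5 : allFrom 100 20 ((cSide CSch.tab CSch.tab_ok).checkBlk model.FL v4) = true := by decide +kernel

theorem flags4_ok : (cSide CSch.tab CSch.tab_ok).checkFlags model.FL v4 = true := by decide +kernel

theorem ok4 : (cSide CSch.tab CSch.tab_ok).VOK model.FL v4 := by
  refine ⟨flags4_ok, fun b hb => ?_⟩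
  change b < 120 at hb
  by_cases h0a : b < 20
  · exact allFrom_iff.1 blk4_0 b (by omega) (by omega)
  by_cases h1a : b < 40
  · exact allFrom_iff.1 blk4_1 b (by omega) (by omega)
  by_cases h2a : b < 60
  · exact allFrom_iff.1 blk4_2 b (by omega) (by omega)
  by_cases h3a : b < 80
  · exact allFrom_iff.1 blk4_3 b (by omega) (by omega)
  by_cases h4a : b < 100
  · exact allFrom_iff.1 blk4_4 b (by omega) (by omega)
  by_cases h5a : b < 120
  · exact allFrom_iff.1 blk4_5 b (by omega) (by omega)
  omega

end Cfsg.Agent.Lib.ThDce.Data
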