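import Cfsg.Agent.Lib.ThDce.Data.Model

/-! Checks of the vertex 6. -/

set_option autoImplicit false
set_option maxRecDepth 20000
set_option Elab.async false

namespace Cfsg.Agent.Lib.ThDce.Data

open Cfsg.Agent.Lib.CosetEnum

theorem blk6_0 : allFrom 0 30 (pSide.checkBlk model.FN v6) = true := by decide +kernel

theorem blk6_1 : allFrom 30 30 (pSide.checkBlk model.FN v6) = true := by decide +kernel

theorem blk6_2 : allFrom 60 30 (pSide.checkBlk model.FN v6) = true := by decide +kernel

theorem blk6_3 : allFrom 90 30 (pSide.checkBlk model.FN v6) = true := by decide +kernel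

theorem blk6_4 : allFrom 120 30 (pSide.checkBlk model.FN v6) = true := by decide +kernel

theorem blk6_5 : allFrom 150 30 (pSide.checkBlk model.FN v6) = true := by decide +kernel

theorem blk6_6 : allFrom 180 30 (pSide.checkBlk model.FN v6) = true := by decide +kernel

theorem blk6_7 : allFrom 210 30 (pSide.checkBlk model.FN v6) = true := by decide +kernel

theorem blk6_8 : allFrom 240 30 (pSide.checkBlk model.FN v6) = true := by decide +kernel

theorem blk6_9 : allFrom 270 30 (pSide.checkBlk model.FN v6) = true := by decide +kernel

theorem blk6_10 : allFrom 300 30 (pSide.checkBlk model.FN v6) = true := by decide +kernel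

theorem blk6_11 : allFrom 330 30 (pSide.checkBlk model.FN v6) = true := by decide +kernel

theorem blk6_12 : allFrom 360 30 (pSide.checkBlk model.FN v6) = true := by decide +kernel

theorem blk6_13 : allFrom 390 30 (pSide.checkBlk model.FN v6) = true := by decide +kernel

theorem blk6_14 : allFrom 420 30 (pSide.checkBlk model.FN v6) = true := by decide +kernel

theorem blk6_15 : allFrom 450 30 (pSide.checkBlk model.FN v6) = true := by decide +kernel

theorem blk6_16 : allFrom 480 30 (pSide.checkBlk model.FN v6) = true := by decide +kernel

theorem blk6_17 : allFrom 510 30 (pSide.checkBlk model.FN v6) = true := by decide +kernel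

theorem blk6_18 : allFrom 540 30 (pSide.checkBlk model.FN v6) = true := by decide +kernel

theorem blk6_19 : allFrom 570 30 (pSide.checkBlk model.FN v6) = true := by decide +kernel

theorem blk6_20 : allFrom 600 30 (pSide.checkBlk model.FN v6) = true := by decide +kernel

theorem blk6_21 : allFrom 630 30 (pSide.checkBlk model.FN v6) = true := by decide +kernel

theorem blk6_22 : allFrom 660 30 (pSide.checkBlk model.FN v6) = true := by decide +kernel

theorem blk6_23 : allFrom 690 30 (pSide.checkBlk model.FN v6) = true := by decide +kernel

theorem blk6_24 : allFrom 720 30 (pSide.checkBlk model.FN v6) = true := by decide +kernel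

theorem blk6_25 : allFrom 750 30 (pSide.checkBlk model.FN v6) = true := by decide +kernel

theorem blk6_26 : allFrom 780 30 (pSide.checkBlk model.FN v6) = true := by decide +kernel

theorem blk6_27 : allFrom 810 9 (pSide.checkBlk model.FN v6) = true := by decide +kernel

theorem flags6_ok : pSide.checkFlags model.FN v6 = true := by decide +kernel

theorem ok6 : pSide.VOK model.FN v6 := by
  refine ⟨flags6_ok, fun b hb => ?_⟩
  change b < 819 at hb
  by_cases h0a : b < 30
  · exact allFrom_iff.1 blk6_0 b (by omega) (by omega)
  by_cases h1a : b < 60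
  · exact allFrom_iff.1 blk6_1 b (by omega) (by omega)
  by_cases h2a : b < 90
  · exact allFrom_iff.1 blk6_2 b (by omega) (by omega)
  by_cases h3a : b < 120
  · exact allFrom_iff.1 blk6_3 b (by omega) (by omega)
  by_cases h4a : b < 150
  · exact allFrom_iff.1 blk6_4 b (by omega) (by omega)
  by_cases h5a : b < 180
  · exact allFrom_iff.1 blk6_5 b (by omega) (by omega)
  by_cases h6a : b < 210
  · exact allFrom_iff.1 blk6_6 b (by omega) (by omega)
  by_cases h7a : b < 240
  · exact allFrom_iff.1 blk6_7 b (by omega) (by omega)
  by_cases h8a : b < 270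
  · exact allFrom_iff.1 blk6_8 b (by omega) (by omega)
  by_cases h9a : b < 300
  · exact allFrom_iff.1 blk6_9 b (by omega) (by omega)
  by_cases h10a : b < 330
  · exact allFrom_iff.1 blk6_10 b (by omega) (by omega)
  by_cases h11a : b < 360
  · exact allFrom_iff.1 blk6_11 b (by omega) (by omega)
  by_cases h12a : b < 390
  · exact allFrom_iff.1 blk6_12 b (by omega) (by omega)
  by_cases h13a : b < 420
  · exact allFrom_iff.1 blk6_13 b (by omega) (by omega)
  by_cases h14a : b < 450
  · exact allFrom_iff.1 blk6_14 b (by omega) (by omega)
  by_cases h15a : b < 480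
  · exact allFrom_iff.1 blk6_15 b (by omega) (by omega)
  by_cases h16a : b < 510
  · exact allFrom_iff.1 blk6_16 b (by omega) (by omega)
  by_cases h17a : b < 540
  · exact allFrom_iff.1 blk6_17 b (by omega) (by omega)
  by_cases h18a : b < 570
  · exact allFrom_iff.1 blk6_18 b (by omega) (by omega)
  by_cases h19a : b < 600
  · exact allFrom_iff.1 blk6_19 b (by omega) (by omega)
  by_cases h20a : b < 630
  · exact allFrom_iff.1 blk6_20 b (by omega) (by omega)
  by_cases h21a : b < 660
  · exact allFrom_iff.1 blk6_21 b (by omega) (by omega)
  by_cases h22a : b < 690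
  · exact allFrom_iff.1 blk6_22 b (by omega) (by omega)
  by_cases h23a : b < 720
  · exact allFrom_iff.1 blk6_23 b (by omega) (by omega)
  by_cases h24a : b < 750
  · exact allFrom_iff.1 blk6_24 b (by omega) (by omega)
  by_cases h25a : b < 780
  · exact allFrom_iff.1 blk6_25 b (by omega) (by omega)
  by_cases h26a : b < 810
  · exact allFrom_iff.1 blk6_26 b (by omega) (by omega)
  by_cases h27a : b < 819
  · exact allFrom_iff.1 blk6_27 b (by omega) (by omega)
  omega

end Cfsg.Agent.Lib.ThDce.Data
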