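import Cfsg.Agent.Lib.ThDce.Data.Facts

/-! Checks of the equations. -/

set_option autoImplicit false
set_option maxRecDepth 20000
set_option Elab.async false

namespace Cfsg.Agent.Lib.ThDce.Data

open Cfsg.Agent.Lib.CosetEnum

theorem walks0_0 : allFrom 0 8 dData.check = true := by decide +kernel

theorem walks0_1 : allFrom 8 8 dData.check = true := by decide +kernel

theorem walks0_2 : allFrom 16 8 dData.check = true := by decide +kernel

theorem walks0_3 : allFrom 24 8 dData.check = true := by decide +kernel

theorem walks0_4 : allFrom 32 8 dData.check = true := by decide +kernel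

theorem walks0_5 : allFrom 40 8 dData.check = true := by decide +kernel

theorem walks0_6 : allFrom 48 8 dData.check = true := by decide +kernel

theorem walks0_7 : allFrom 56 8 dData.check = true := by decide +kernel

theorem walks0_8 : allFrom 64 8 dData.check = true := by decide +kernel

theorem walks0_9 : allFrom 72 8 dData.check = true := by decide +kernel

theorem walks0_10 : allFrom 80 8 dData.check = true := by decide +kernel

theorem walks0_11 : allFrom 88 2 dData.check = true := by decide +kernel

theorem walks0 : ∀ i, 0 ≤ i → i < 90 → dData.check i = true := by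
  intro i h0 h1
  by_cases h0a : i < 8
  · exact allFrom_iff.1 walks0_0 i (by omega) (by omega)
  by_cases h1a : i < 16
  · exact allFrom_iff.1 walks0_1 i (by omega) (by omega)
  by_cases h2a : i < 24
  · exact allFrom_iff.1 walks0_2 i (by omega) (by omega)
  by_cases h3a : i < 32
  · exact allFrom_iff.1 walks0_3 i (by omega) (by omega)
  by_cases h4a : i < 40
  · exact allFrom_iff.1 walks0_4 i (by omega) (by omega)
  by_cases h5a : i < 48
  · exact allFrom_iff.1 walks0_5 i (by omega) (by omega)
  by_cases h6a : i < 56
  · exact allFrom_iff.1 walks0_6 i (by omega) (by omega)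
  by_cases h7a : i < 64
  · exact allFrom_iff.1 walks0_7 i (by omega) (by omega)
  by_cases h8a : i < 72
  · exact allFrom_iff.1 walks0_8 i (by omega) (by omega)
  by_cases h9a : i < 80
  · exact allFrom_iff.1 walks0_9 i (by omega) (by omega)
  by_cases h10a : i < 88
  · exact allFrom_iff.1 walks0_10 i (by omega) (by omega)
  by_cases h11a : i < 90
  · exact allFrom_iff.1 walks0_11 i (by omega) (by omega)
  omega

end Cfsg.Agent.Lib.ThDce.Data
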