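import Cfsg.Agent.Lib.ThDce.Data.Facts

/-! Checks of the equations. -/

set_option autoImplicit false
set_option maxRecDepth 20000
set_option Elab.async false

namespace Cfsg.Agent.Lib.ThDce.Data

open Cfsg.Agent.Lib.CosetEnum

theorem walks1_0 : allFrom 90 8 dData.check = true := by decide +kernel

theorem walks1_1 : allFrom 98 8 dData.check = true := by decide +kernel

theorem walks1_2 : allFrom 106 8 dData.check = true := by decide +kernel

theorem walks1_3 : allFrom 114 8 dData.check = true := by decide +kernel

theorem walks1_4 : allFrom 122 8 dData.check = true := by decide +kernel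

theorem walks1_5 : allFrom 130 8 dData.check = true := by decide +kernel

theorem walks1_6 : allFrom 138 8 dData.check = true := by decide +kernel

theorem walks1_7 : allFrom 146 8 dData.check = true := by decide +kernel

theorem walks1_8 : allFrom 154 8 dData.check = true := by decide +kernel

theorem walks1_9 : allFrom 162 8 dData.check = true := by decide +kernel

theorem walks1_10 : allFrom 170 8 dData.check = true := by decide +kernel

theorem walks1_11 : allFrom 178 2 dData.check = true := by decide +kernel

theorem walks1 : ∀ i, 90 ≤ i → i < 180 → dData.check i = true := by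
  intro i h0 h1
  by_cases h0a : i < 98
  · exact allFrom_iff.1 walks1_0 i (by omega) (by omega)
  by_cases h1a : i < 106
  · exact allFrom_iff.1 walks1_1 i (by omega) (by omega)
  by_cases h2a : i < 114
  · exact allFrom_iff.1 walks1_2 i (by omega) (by omega)
  by_cases h3a : i < 122
  · exact allFrom_iff.1 walks1_3 i (by omega) (by omega)
  by_cases h4a : i < 130
  · exact allFrom_iff.1 walks1_4 i (by omega) (by omega)
  by_cases h5a : i < 138
  · exact allFrom_iff.1 walks1_5 i (by omega) (by omega)
  by_cases h6a : i < 146
  · exact allFrom_iff.1 walks1_6 i (by omega) (by omega)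
  by_cases h7a : i < 154
  · exact allFrom_iff.1 walks1_7 i (by omega) (by omega)
  by_cases h8a : i < 162
  · exact allFrom_iff.1 walks1_8 i (by omega) (by omega)
  by_cases h9a : i < 170
  · exact allFrom_iff.1 walks1_9 i (by omega) (by omega)
  by_cases h10a : i < 178
  · exact allFrom_iff.1 walks1_10 i (by omega) (by omega)
  by_cases h11a : i < 180
  · exact allFrom_iff.1 walks1_11 i (by omega) (by omega)
  omega

end Cfsg.Agent.Lib.ThDce.Data
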