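import Cfsg.Agent.Lib.ThDce.Data.Facts

/-! Checks of the equations. -/

set_option autoImplicit false
set_option maxRecDepth 20000
set_option Elab.async false

namespace Cfsg.Agent.Lib.ThDce.Data

open Cfsg.Agent.Lib.CosetEnum

theorem walks2_0 : allFrom 180 8 dData.check = true := by decide +kernel

theorem walks2_1 : allFrom 188 8 dData.check = true := by decide +kernel

theorem walks2_2 : allFrom 196 8 dData.check = true := by decide +kernel

theorem walks2_3 : allFrom 204 8 dData.check = true := by decide +kernel

theorem walks2_4 : allFrom 212 8 dData.check = true := by decide +kernel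

theorem walks2_5 : allFrom 220 8 dData.check = true := by decide +kernel

theorem walks2_6 : allFrom 228 8 dData.check = true := by decide +kernel

theorem walks2_7 : allFrom 236 8 dData.check = true := by decide +kernel

theorem walks2_8 : allFrom 244 8 dData.check = true := by decide +kernel

theorem walks2_9 : allFrom 252 8 dData.check = true := by decide +kernel

theorem walks2_10 : allFrom 260 8 dData.check = true := by decide +kernel

theorem walks2_11 : allFrom 268 2 dData.check = true := by decide +kernel

theorem walks2 : ∀ i, 180 ≤ i → i < 270 → dData.check i = true := by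
  intro i h0 h1
  by_cases h0a : i < 188
  · exact allFrom_iff.1 walks2_0 i (by omega) (by omega)
  by_cases h1a : i < 196
  · exact allFrom_iff.1 walks2_1 i (by omega) (by omega)
  by_cases h2a : i < 204
  · exact allFrom_iff.1 walks2_2 i (by omega) (by omega)
  by_cases h3a : i < 212
  · exact allFrom_iff.1 walks2_3 i (by omega) (by omega)
  by_cases h4a : i < 220
  · exact allFrom_iff.1 walks2_4 i (by omega) (by omega)
  by_cases h5a : i < 228
  · exact allFrom_iff.1 walks2_5 i (by omega) (by omega)
  by_cases h6a : i < 236
  · exact allFrom_iff.1 walks2_6 i (by omega) (by omega)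
  by_cases h7a : i < 244
  · exact allFrom_iff.1 walks2_7 i (by omega) (by omega)
  by_cases h8a : i < 252
  · exact allFrom_iff.1 walks2_8 i (by omega) (by omega)
  by_cases h9a : i < 260
  · exact allFrom_iff.1 walks2_9 i (by omega) (by omega)
  by_cases h10a : i < 268
  · exact allFrom_iff.1 walks2_10 i (by omega) (by omega)
  by_cases h11a : i < 270
  · exact allFrom_iff.1 walks2_11 i (by omega) (by omega)
  omega

end Cfsg.Agent.Lib.ThDce.Data
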