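import Cfsg.Agent.Lib.ThDce.Data.Check0
import Cfsg.Agent.Lib.ThDce.Data.Check1
import Cfsg.Agent.Lib.ThDce.Data.Check2
import Cfsg.Agent.Lib.ThDce.Data.Check3
import Cfsg.Agent.Lib.ThDce.Data.Check4
import Cfsg.Agent.Lib.ThDce.Data.Check5
import Cfsg.Agent.Lib.ThDce.Data.Check6
import Cfsg.Agent.Lib.ThDce.Data.Check7
import Cfsg.Agent.Lib.ThDce.Data.Check8
import Cfsg.Agent.Lib.ThDce.Data.Check9
import Cfsg.Agent.Lib.ThDce.Data.Check10
import Cfsg.Agent.Lib.ThDce.Data.Check11
import Cfsg.Agent.Lib.ThDce.Data.Check12
import Cfsg.Agent.Lib.ThDce.Data.Check13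
import Cfsg.Agent.Lib.ThDce.Data.Check14
import Cfsg.Agent.Lib.ThDce.Data.Check15
import Cfsg.Agent.Lib.ThDce.Data.Check16
import Cfsg.Agent.Lib.ThDce.Data.Check17
import Cfsg.Agent.Lib.ThDce.Data.Check18
import Cfsg.Agent.Lib.ThDce.Data.Check19
import Cfsg.Agent.Lib.ThDce.Data.Check20
import Cfsg.Agent.Lib.ThDce.Data.Check21
import Cfsg.Agent.Lib.ThDce.Data.Check22
import Cfsg.Agent.Lib.ThDce.Data.Check23
import Cfsg.Agent.Lib.ThDce.Data.Walks0
import Cfsg.Agent.Lib.ThDce.Data.Walks1
import Cfsg.Agent.Lib.ThDce.Data.Walks2
import Cfsg.Agent.Lib.ThDce.Data.Walks3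
import Cfsg.Agent.Lib.ThDce.CSch.Check

/-! The checked certificate. -/

set_option autoImplicit false
set_option maxRecDepth 20000
set_option Elab.async false

namespace Cfsg.Agent.Lib.ThDce.Data

open Cfsg.Agent.Lib.CosetEnum

theorem vtx_ok : allBelow 24 model.checkVtx = true := by decide +kernel

theorem flg0 : allFrom 0 30 model.checkFlag = true := by decide +kernel

theorem flg1 : allFrom 30 30 model.checkFlag = true := by decide +kernel

theorem flg2 : allFrom 60 30 model.checkFlag = true := by decide +kernel

theorem flg3 : allFrom 90 30 model.checkFlag = true := by decide +kernel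

theorem flg4 : allFrom 120 30 model.checkFlag = true := by decide +kernel

theorem flg5 : allFrom 150 30 model.checkFlag = true := by decide +kernel

theorem flg6 : allFrom 180 30 model.checkFlag = true := by decide +kernel

theorem flg7 : allFrom 210 30 model.checkFlag = true := by decide +kernel

theorem flg8 : allFrom 240 1 model.checkFlag = true := by decide +kernel

theorem flg_ok : ∀ f < 241, model.checkFlag f = true := by
  intro f hf
  by_cases h0a : f < 30
  · exact allFrom_iff.1 flg0 f (by omega) (by omega)
  by_cases h1a : f < 60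
  · exact allFrom_iff.1 flg1 f (by omega) (by omega)
  by_cases h2a : f < 90
  · exact allFrom_iff.1 flg2 f (by omega) (by omega)
  by_cases h3a : f < 120
  · exact allFrom_iff.1 flg3 f (by omega) (by omega)
  by_cases h4a : f < 150
  · exact allFrom_iff.1 flg4 f (by omega) (by omega)
  by_cases h5a : f < 180
  · exact allFrom_iff.1 flg5 f (by omega) (by omega)
  by_cases h6a : f < 210
  · exact allFrom_iff.1 flg6 f (by omega) (by omega)
  by_cases h7a : f < 240
  · exact allFrom_iff.1 flg7 f (by omega) (by omega)
  by_cases h8a : f < 241
  · exact allFrom_iff.1 flg8 f (by omega) (by omega)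
  omega

theorem node_ok : allBelow 11 (fun i => Nat.blt (model.nodes.getD i 0) 24 && !model.isLine (model.nodes.getD i 0)) = true := by
  decide +kernel

/-- The certificate. -/
noncomputable def cert : Cert where
  C := model
  tab := CSch.tab_ok
  facts i hi := by
    change i < 358 at hi
    by_cases h0 : i < 90
    · exact walks0 i (by omega) (by omega)
    by_cases h1 : i < 180
    · exact walks1 i (by omega) (by omega)
    by_cases h2 : i < 270
    · exact walks2 i (by omega) (by omega)
    exact walks3 i (by omega) (by omega)
  vtx := allBelow_iff.1 vtx_ok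
  flg := flg_ok
  node i hi := by
    have h := allBelow_iff.1 node_ok i hi
    simp only [Bool.and_eq_true, Nat.blt_eq, Bool.not_eq_true'] at h
    exact h
  node0 := ⟨by decide, rfl⟩
  nodeOK i hi := by
    change i < 11 at hi
    interval_cases i
    · exact ok0
    · exact ok2
    · exact ok3
    · exact ok6
    · exact ok8
    · exact ok13
    · exact ok14
    · exact ok15
    · exact ok16
    · exact ok19
    · exact ok23
  lineOK v hv hl := by
    change v < 24 at hv
    interval_cases v
    · exact absurd hl (by decide)
    · exact ok1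
    · exact absurd hl (by decide)
    · exact absurd hl (by decide)
    · exact ok4
    · exact ok5
    · exact absurd hl (by decide)
    · exact ok7
    · exact absurd hl (by decide)
    · exact ok9
    · exact ok10
    · exact ok11
    · exact ok12
    · exact absurd hl (by decide)
    · exact absurd hl (by decide)
    · exact absurd hl (by decide)
    · exact absurd hl (by decide)
    · exact ok17
    · exact ok18
    · exact absurd hl (by decide)
    · exact ok20
    · exact ok21
    · exact ok22
    · exact absurd hl (by decide)

end Cfsg.Agent.Lib.ThDce.Data
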