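import Cfsg.Agent.Lib.ThDce.Simple
import Cfsg.Agent.Lib.ThDce.Data.All

/-! Primitivity, separation and counting data, with their checks. -/

set_option autoImplicit false
set_option maxRecDepth 20000
set_option Elab.async false

namespace Cfsg.Agent.Lib.ThDce.Data

open Cfsg.Agent.Lib.CosetEnum

/-- Words of the nodes, walks of the base point to them, climbs. -/
def prim : PrimData where
  R := [(wd 0x1), (wd 0x104e51), (wd 0x18b8646b8646a8646aa8be6e35753b9b7579a7579bd7579a1), (wd 0x104e51824642064bbe35751379a7579b7579a7579bc), (wd 0x18b8646b8646a8646aa8be6e35753b9b7579a7579bd7579a148642b8646b8646a8646aa8be6e579b79357513c9b579a579b579b579bb7), (wd 0x18b8646b8646a8646aa8be6e35753b9b7579a7579bd7579a14864204e795753d791), (wd 0x18b8646b8646a8646aa8be6e35753b9b7579a7579bd7579a14864204ae9b9b35791357539b579ac579b579b579a5), (wd 0x18b8646b8646a8646aa8be6e35753b9b7579a7579bd7579a14864208646bb8646b8646a8a8e6eb579b5795753bcb9b7), (wd 0x18b8646b8646a8646aa8be6e35753b9b7579a7579bd7579a14864204bebb935753b9aa7579a7579a9757),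 (wd 0x104e51824642064bbe35751379a7579b7579a7579bc64db864b864b864a864204642086a8642f7fa79b7579a7579b75797104ebb9357b957539b9b79b579a579bd5751), (wd 0x104e51824642064bbe35751379a7579b7579a7579bc64db864b864b864a864204642086a8642f7fa79b7579a7579b757971357)]
  reach := [
    ([], (wg 0x1)),
    ([⟨(wg 0x1), 0, (wd 0x104), (wg 0x1), 1, (wd 0x1486468a8646a86468bb)⟩], (wg 0x14)),
    ([⟨(wg 0x1), 0, (wd 0x18b8646b8646a8646aa8b), (wg 0x1), 1, (wd 0x1486468a8a86468bb)⟩, ⟨(wg 0x1), 1, (wd 0x1486468a86b86468aa), (wg 0x1), 7, (wd 0x1)⟩], (wg 0x1)),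
    ([⟨(wg 0x1), 0, (wd 0x104), (wg 0x1), 1, (wd 0x1486468a8646a86468bb)⟩, ⟨(wg 0x14), 3, (wd 0x1064bb), (wg 0x19784), 22, (wd 0x10b864a864ca864a864b8)⟩], (wg 0x177)),
    ([⟨(wg 0x1), 0, (wd 0x18b8646b8646a8646aa8b), (wg 0x1), 1, (wd 0x1486468a8a86468bb)⟩, ⟨(wg 0x1), 1, (wd 0x1486468a86b86468aa), (wg 0x1), 7, (wd 0x1)⟩, ⟨(wg 0x1), 6, (wd 0x1b8646b8646a8646aa8b), (wg 0x13), 28, (wd 0x14d)⟩, ⟨(wg 0x1), 28, (wd 0x146d), (wg 0x1), 13, (wd 0x10646cb864a864ca8)⟩], (wg 0x180)),
    ([⟨(wg 0x1), 0, (wd 0x18b8646b8646a8646aa8b), (wg 0x1), 1, (wd 0x1486468a8a86468bb)⟩, ⟨(wg 0x1), 1, (wd 0x1486468a86b86468aa), (wg 0x1), 7, (wd 0x1)⟩, ⟨(wg 0x1), 6, (wd 0x104), (wg 0x13), 28, (wd 0x164648d)⟩], (wg 0x14)),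
    ([⟨(wg 0x1), 0, (wd 0x18b8646b8646a8646aa8b), (wg 0x1), 1, (wd 0x1486468a8a86468bb)⟩, ⟨(wg 0x1), 1, (wd 0x1486468a86b86468aa), (wg 0x1), 7, (wd 0x1)⟩, ⟨(wg 0x1), 6, (wd 0x104a), (wg 0x1331), 47, (wd 0x108646b864cb864a86a)⟩], (wg 0x14)),
    ([⟨(wg 0x1), 0, (wd 0x18b8646b8646a8646aa8b), (wg 0x1), 1, (wd 0x1486468a8a86468bb)⟩, ⟨(wg 0x1), 1, (wd 0x1486468a86b86468aa), (wg 0x1), 7, (wd 0x1)⟩, ⟨(wg 0x1), 6, (wd 0x108646bb8646b8646a8a8), (wg 0x1), 177, (wd 0x10646)⟩, ⟨(wg 0x1), 177, (wd 0x1064), (wg 0x1), 72, (wd 0x1)⟩], (wg 0x1)),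
    ([⟨(wg 0x1), 0, (wd 0x18b8646b8646a8646aa8b), (wg 0x1), 1, (wd 0x1486468a8a86468bb)⟩, ⟨(wg 0x1), 1, (wd 0x1486468a86b86468aa), (wg 0x1), 7, (wd 0x1)⟩, ⟨(wg 0x1), 6, (wd 0x104b), (wg 0x1), 177, (wd 0x1)⟩], (wg 0x1)),
    ([⟨(wg 0x1), 0, (wd 0x104), (wg 0x1), 1, (wd 0x1486468a8646a86468bb)⟩, ⟨(wg 0x14), 3, (wd 0x1064bb), (wg 0x19784), 22, (wd 0x10b864a864ca864a864b8)⟩, ⟨(wg 0x15), 23, (wd 0x18a864ca864a864a86b8a), (wg 0x104), 100, (wd 0x108646a8646b8646ca8646b)⟩, ⟨(wg 0x1), 100, (wd 0x148646a8646b8646ca864a), (wg 0x1), 9, (wd 0x168646a8646b8646a864b)⟩, ⟨(wg 0x1), 9, (wd 0x104), (wg 0x1), 70, (wd 0x1)⟩], (wg 0x1)),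
    ([⟨(wg 0x1), 0, (wd 0x104), (wg 0x1), 1, (wd 0x1486468a8646a86468bb)⟩, ⟨(wg 0x14), 3, (wd 0x1064bb), (wg 0x19784), 22, (wd 0x10b864a864ca864a864b8)⟩, ⟨(wg 0x15), 23, (wd 0x18a864ca864a864a86b8a), (wg 0x104), 100, (wd 0x108646a8646b8646ca8646b)⟩, ⟨(wg 0x1), 100, (wd 0x148646a8646b8646ca864a), (wg 0x1), 9, (wd 0x168646a8646b8646a864b)⟩], (wg 0x1))]
  first := [⟨(wg 0x1), 0, (wd 0x1), (wg 0x1), 1, (wd 0x186468a8646a86468bb)⟩]
  one := 1
  climb := [
    (3, (wd 0x164a64), [⟨(wg 0x160), 17, (wd 0x164864a864da8646b86a8c), (wg 0x1), 4, (wd 0x10464b864a864a864bdb86)⟩, ⟨(wg 0x1), 7, (wd 0x1b864bb864b864a864b8), (wg 0x1a694), 1, (wd 0x10864bb864a86b86)⟩], 1),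
    (5, (wd 0x14a2664c2a), [⟨(wg 0x13), 27, (wd 0x10a864b864b864bb864a8ac), (wg 0x1), 48, (wd 0x164a86da8646486b8646a)⟩, ⟨(wg 0x1), 48, (wd 0x164a86da8646486b864b), (wg 0x1300), 178, (wd 0x1464cb864a8646b86ac)⟩, ⟨(wg 0x1), 197, (wd 0x10464a864aa864ad), (wg 0x1), 19, (wd 0x14646b864a864a864a8ca)⟩], 3),
    (6, (wd 0x12628a622c82), [⟨(wg 0x15), 37, (wd 0x148646a8646a86b8646486), (wg 0x11), 136, (wd 0x10a8646da8646a8646a8a8)⟩, ⟨(wg 0x1), 136, (wd 0x10a864bb864a864b86a8ad), (wg 0x100), 214, (wd 0x14a864b8646b864a86ca)⟩, ⟨(wg 0x1), 141, (wd 0x1646486a8646a8646a86), (wg 0x10), 33, (wd 0x1468646a8646b8646da8)⟩], 5),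
    (7, (wd 0x12a64066), [⟨(wg 0x1), 72, (wd 0x14864ca86a8b), (wg 0x1333), 72, (wd 0x146a864b8646a864b86b8)⟩, ⟨(wg 0x1), 72, (wd 0x146a864b864b864b86b8), (wg 0x12221), 177, (wd 0x16864a864a864a864a8)⟩, ⟨(wg 0x10), 167, (wd 0x14648b864a864a864da86a8), (wg 0x10), 144, (wd 0x14646da864b864a864b8bd)⟩, ⟨(wg 0x1), 144, (wd 0x16b864a864b864cb864a8b), (wg 0x1), 19, (wd 0x1464bb864b864cb8b)⟩], 3),
    (8, (wd 0x1684862), [⟨(wg 0x12), 94, (wd 0x10464ca864a8bc), (wg 0x130), 178, (wd 0x1db86464b86bb)⟩, ⟨(wg 0x1), 178, (wd 0x1db86464b8aa), (wg 0x1), 48, (wd 0x14686b86468b8646d)⟩, ⟨(wg 0x1342), 36, (wd 0x10aa864ca8), (wg 0x16), 26, (wd 0x106486ca8646b86a)⟩], 5),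
    (9, (wd 0x1), [⟨(wg 0x1020), 51, (wd 0x1464b864a86468db8), (wg 0x1), 12, (wd 0x1b86ca)⟩, ⟨(wg 0x146), 14, (wd 0x14a86db86464b864a8a), (wg 0x1), 190, (wd 0x164db864a864a864bb864)⟩, ⟨(wg 0x102), 167, (wd 0x16468a8646db864a8), (wg 0x1), 44, (wd 0x146b864b864ca864a864a)⟩, ⟨(wg 0x1), 44, (wd 0x1046b864b864ca864a8b), (wg 0x10), 64, (wd 0x18646b8646a8646ada8)⟩, ⟨(wg 0x1), 64, (wd 0x14bb8646a86468ad), (wg 0x1), 115, (wd 0x1468aa86468cb864)⟩], 8),
    (10, (wd 0x1), [⟨(wg 0x12064), 8, (wd 0x1648646a8646db8646a8a), (wg 0x12), 24, (wd 0x1)⟩, ⟨(wg 0x15050), 19, (wd 0x164da8646b864a86b), (wg 0x10), 41, (wd 0x18646bb864a864a86bd)⟩, ⟨(wg 0x140), 42, (wd 0x164a8646b8646b8646a8bc), (wg 0x120), 160, (wd 0x1464b864a864b8646b86ad)⟩, ⟨(wg 0x1), 160, (wd 0x164b8646a864b864a8bd), (wg 0x12), 236, (wd 0x1086b86468da8)⟩], 8),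
    (2, (wd 0x12a0208266), [⟨(wg 0x1b4a0), 4, (wd 0x16464db8646a8a8), (wg 0x1), 17, (wd 0x164864a864b864a86a8b)⟩, ⟨(wg 0x1), 17, (wd 0x104a864a864a864b864a8), (wg 0x16), 104, (wd 0x108646db8646b8646a86b)⟩], 8),
    (4, (wd 0x1), [⟨(wg 0x156), 11, (wd 0x1a86464bb8646b8646a86b), (wg 0x1), 2, (wd 0x104b86bd)⟩, ⟨(wg 0x1), 2, (wd 0x104b8ad), (wg 0x1), 4, (wd 0x1086468c)⟩, ⟨(wg 0x1a8), 6, (wd 0x10464a864bb8bd), (wg 0x1212), 28, (wd 0x1a86464bb8646b8646a86b)⟩, ⟨(wg 0x1), 28, (wd 0x1a86464bb8646b8646a8a), (wg 0x1), 6, (wd 0x16864a86bb8bd)⟩], 2)]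

theorem cert_C : cert.C = model := rfl

theorem cert_T : cert.C.D.T = CSch.tab := rfl

theorem prim_ok : prim.check model = true := by decide +kernel

theorem back_ok : flagsBack model = true := by decide +kernel

/-- Words to `u`. -/
def seg0 : List (List (Option (List ℕ))) := [
  [],
  [(some (wd 0x1)), none],
  [(some (wd 0x1)), none, (some (wd 0x16))],
  [(some (wd 0x1468646a8646b8646a8bb)), none, (some (wd 0x16)), (some (wd 0x1a)), none, (some (wd 0x1a)), none, (some (wd 0x16))],
  [(some (wd 0x1648b864b864aa864a86b)), none, (some (wd 0x1a)), none, (some (wd 0x18)), (some (wd 0x1a)), (some (wd 0x18)), (some (wd 0x16))],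
  [(some (wd 0x1a)), none, none],
  [(some (wd 0x1bbb)), none, (some (wd 0x1c)), none],
  [(some (wd 0x104b)), none, none],
  [(some (wd 0x1)), none, (some (wd 0x1a)), (some (wd 0x1a))],
  [(some (wd 0x1da)), none, (some (wd 0x1c)), none],
  [(some (wd 0x104db)), none, (some (wd 0x1c)), none],
  [(some (wd 0x164a86468b86468b)), none, none, (some (wd 0x1a)), none],
  [(some (wd 0x1)), none, (some (wd 0x16)), (some (wd 0x1c)), (some (wd 0x1a))],
  [(some (wd 0x1)), none, (some (wd 0x1c)), (some (wd 0x1a)), (some (wd 0x16))],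
  [(some (wd 0x14ad)), none, none, none, none, (some (wd 0x1a))],
  [(some (wd 0x16a86464a8c)), none, none, none, none, none, none],
  [(some (wd 0x18646a8646b8646a86d)), none, none, (some (wd 0x18)), (some (wd 0x1c)), none],
  [(some (wd 0x1)), none, (some (wd 0x18)), (some (wd 0x16))],
  [(some (wd 0x1)), none, (some (wd 0x1a)), (some (wd 0x16))],
  [(some (wd 0x16864b864db864b86b8d)), none, (some (wd 0x18)), none, (some (wd 0x1c)), (some (wd 0x1a)), (some (wd 0x16))],
  [(some (wd 0x1864aaa864b864b864a8)), none, none, none, (some (wd 0x1c)), (some (wd 0x1a))],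
  [(some (wd 0x1a86464bb8646b8646b8a)), none, (some (wd 0x1a)), none, none, none],
  [(some (wd 0x10464864b864ada86b8)), none, (some (wd 0x1a)), none, (some (wd 0x1a))],
  [(some (wd 0x14da864a864b864a86bb8)), none, none, none, none, none],
  [(some (wd 0x1db864a8646a864b8)), none, none, (some (wd 0x16)), none, (some (wd 0x16))],
  [(some (wd 0x16486a86464b8d)), none, none, (some (wd 0x1a)), none, (some (wd 0x18)), (some (wd 0x16))],
  [(some (wd 0x14aa86468cb86468)), none, none, none, (some (wd 0x16)), (some (wd 0x1a))],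
  [(some (wd 0x16864b864db864b86b8)), none, (some (wd 0x18)), none, (some (wd 0x1a)), (some (wd 0x16))],
  [(some (wd 0x16aa8646b86a864648)), none, (some (wd 0x16)), none, (some (wd 0x16)), none, (some (wd 0x16))],
  [(some (wd 0x1)), none, (some (wd 0x18)), (some (wd 0x1a)), (some (wd 0x16))]]

/-- Words to `u`. -/
def seg1 : List (List (Option (List ℕ))) := [
  [(some (wd 0x1)), none, (some (wd 0x16)), (some (wd 0x1a))],
  [(some (wd 0x1)), none, (some (wd 0x16)), (some (wd 0x1a)), (some (wd 0x1a))],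
  [(some (wd 0x1)), none, (some (wd 0x1a)), (some (wd 0x18)), (some (wd 0x16))],
  [(some (wd 0x1)), none, (some (wd 0x18)), (some (wd 0x1a)), (some (wd 0x18)), (some (wd 0x16))],
  [(some (wd 0x104b864aa864a864b86b8b)), none, none, none, none, none, none],
  [(some (wd 0x1468646b8646b86468)), none, none, none, none, none],
  [(some (wd 0x1)), none, (some (wd 0x18)), (some (wd 0x16)), (some (wd 0x1c)), (some (wd 0x1a))],
  [(some (wd 0x14864cb864a864a86b864b)), none, none, (some (wd 0x16)), (some (wd 0x1c)), none],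
  [(some (wd 0x1046a8ad)), none, none, none, none, none],
  [(some (wd 0x1a864b864b864a864aa8aa)), none, none, none, (some (wd 0x18)), none, (some (wd 0x16))],
  [(some (wd 0x1da864a864b864a864aa)), none, (some (wd 0x18)), none, (some (wd 0x16)), none],
  [(some (wd 0x14da864a864b864a86aa)), none, (some (wd 0x16)), (some (wd 0x18)), none, (some (wd 0x1a))],
  [(some (wd 0x1486b864b864b864aa86)), none, (some (wd 0x16)), (some (wd 0x18)), none, (some (wd 0x1a))],
  [(some (wd 0x1864a8646da86bd)), none, none, (some (wd 0x1c)), none, none],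
  [(some (wd 0x108b86a8646a8a)), none, (some (wd 0x16)), none, (some (wd 0x16)), none],
  [(some (wd 0x168646a864a864a86bb8a)), none, (some (wd 0x18)), (some (wd 0x16)), none],
  [(some (wd 0x1048a864b864db864b86a86)), none, (some (wd 0x18)), (some (wd 0x1a)), (some (wd 0x1a)), none],
  [(some (wd 0x1a864aa8646b864b864b8d)), none, (some (wd 0x18)), (some (wd 0x1a)), (some (wd 0x1a)), none],
  [(some (wd 0x1046)), none, none, none, (some (wd 0x1a)), (some (wd 0x16)), none],
  [(some (wd 0x1)), none, (some (wd 0x18)), (some (wd 0x16)), (some (wd 0x1a))],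
  [(some (wd 0x1464a864b864a864bb86a8d)), none, none, none, (some (wd 0x18)), none, (some (wd 0x16))],
  [(some (wd 0x10468b8646da8646a8a)), none, (some (wd 0x1a)), none, none],
  [(some (wd 0x148b8646a8646a8646a8)), none, none, (some (wd 0x1a)), (some (wd 0x1a)), none, (some (wd 0x16))],
  [(some (wd 0x14a86468da86468ad)), none, none, (some (wd 0x16)), (some (wd 0x1a)), none],
  [(some (wd 0x146cb864a864b864b86b8d)), none, none, (some (wd 0x18)), (some (wd 0x1a)), none, (some (wd 0x16))],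
  [(some (wd 0x10646b8646a86db8)), none, (some (wd 0x16)), (some (wd 0x18)), (some (wd 0x1a)), none],
  [(some (wd 0x1864648aa8b)), none, none, none, (some (wd 0x18)), none, (some (wd 0x1a))],
  [(some (wd 0x108b86a8646a8a)), none, none, none, (some (wd 0x16))],
  [(some (wd 0x168646a864a864a86bb8a)), none, (some (wd 0x16)), (some (wd 0x18)), (some (wd 0x16)), none, (some (wd 0x16))],
  [(some (wd 0x146468a864a86)), none, (some (wd 0x1a)), (some (wd 0x18)), none, none]]

/-- Words to `u`. -/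
def seg2 : List (List (Option (List ℕ))) := [
  [(some (wd 0x14a86b86464a86db8)), none, none, none, none, (some (wd 0x16))],
  [(some (wd 0x146468b8646b8646b8b)), none, none, (some (wd 0x18)), (some (wd 0x1a)), none],
  [(some (wd 0x10646cb8646a86bd)), none, (some (wd 0x16)), (some (wd 0x1a)), none, (some (wd 0x1c)), (some (wd 0x1a))],
  [(some (wd 0x14da864a864b864a86da)), none, (some (wd 0x16)), (some (wd 0x18)), none, (some (wd 0x1c)), (some (wd 0x1a))],
  [(some (wd 0x16a864a8646b864ca)), none, none, (some (wd 0x1a)), (some (wd 0x1c)), none, (some (wd 0x16))],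
  [(some (wd 0x1a864b86a8ca)), none, (some (wd 0x1c)), (some (wd 0x1a)), none, (some (wd 0x16))],
  [(some (wd 0x14a8646b8646cb8646a8a8)), none, (some (wd 0x1c)), none, (some (wd 0x1a)), (some (wd 0x1a))],
  [(some (wd 0x1bb86464a8646a8646aa8b)), none, (some (wd 0x1a)), none, (some (wd 0x1a)), (some (wd 0x1c)), (some (wd 0x1a))],
  [(some (wd 0x18646a8646a8646aa8bd)), none, (some (wd 0x1a)), (some (wd 0x1a)), (some (wd 0x1c)), none],
  [(some (wd 0x16468aa8646b8646a86a)), none, (some (wd 0x16)), none],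
  [(some (wd 0x1bb86464a8646a8646aa8b)), none, none, (some (wd 0x1c)), (some (wd 0x1a))],
  [(some (wd 0x186464b864b864a86bd)), none, (some (wd 0x18)), (some (wd 0x1c)), none, none],
  [(some (wd 0x16464b8646a8646aa8b)), none, (some (wd 0x18)), none, (some (wd 0x1c)), (some (wd 0x1a))],
  [(some (wd 0x104864a864da864a86a8db)), none, (some (wd 0x18)), (some (wd 0x16)), (some (wd 0x1c)), none],
  [(some (wd 0x164864a864a864cb86a8b)), none, (some (wd 0x1c)), none, (some (wd 0x16)), none],
  [(some (wd 0x1b864a8646b8646a864a8)), none, none, none, (some (wd 0x16)), none],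
  [(some (wd 0x10da864a864a864bb864b)), none, none, (some (wd 0x18)), (some (wd 0x16)), none],
  [(some (wd 0x10a864a864a864bb864bc)), none, none, (some (wd 0x18)), (some (wd 0x16)), none],
  [(some (wd 0x14646b864b86c)), none, (some (wd 0x18)), none, (some (wd 0x1c)), none],
  [(some (wd 0x1864a864a8646a8b)), none, (some (wd 0x16)), (some (wd 0x18)), (some (wd 0x1a)), none, (some (wd 0x16))],
  [(some (wd 0x146486b86464a864bb8b)), none, (some (wd 0x16)), none, none, (some (wd 0x16))],
  [(some (wd 0x16464cb8646a8646aa8b)), none, (some (wd 0x18)), (some (wd 0x1c)), none, (some (wd 0x1a)), (some (wd 0x1a))],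
  [(some (wd 0x146bb8646a864b864b86a8)), none, (some (wd 0x1a)), none, (some (wd 0x18)), (some (wd 0x16))],
  [(some (wd 0x16468b8646da8)), none, none, (some (wd 0x1c)), none, (some (wd 0x1a))],
  [(some (wd 0x1a864bb864a86aa8bc)), none, (some (wd 0x18)), none, (some (wd 0x18)), (some (wd 0x16))],
  [(some (wd 0x1468646a8646cb8646b86)), none, (some (wd 0x18)), (some (wd 0x1a)), (some (wd 0x1a)), (some (wd 0x18)), (some (wd 0x16))],
  [(some (wd 0x1486468a864a86)), none, none, (some (wd 0x18)), (some (wd 0x1a)), none],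
  [(some (wd 0x164ca864b864b864a86ac)), none, none, (some (wd 0x16)), none],
  [(some (wd 0x108646a8646a8646da8b)), none, (some (wd 0x1a)), (some (wd 0x1a)), none, (some (wd 0x1a))],
  [(some (wd 0x186468a86468bb86468b)), none, (some (wd 0x16)), (some (wd 0x1c)), none, none]]

/-- Words to `u`. -/
def seg3 : List (List (Option (List ℕ))) := [
  [(some (wd 0x1864a864ca864a864b8b)), none, (some (wd 0x18)), (some (wd 0x1c)), (some (wd 0x1a)), none],
  [(some (wd 0x186464a864da86)), none, none, (some (wd 0x1a)), none, none],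
  [(some (wd 0x16aa8646a86a8)), none, (some (wd 0x1c)), (some (wd 0x1c)), none, (some (wd 0x16))],
  [(some (wd 0x146b864b864b864a86aa8)), none, (some (wd 0x18)), (some (wd 0x1a)), none],
  [(some (wd 0x1da86464a8646a8646aa8b)), none, (some (wd 0x1c)), none, (some (wd 0x1a))],
  [(some (wd 0x14a864aa864a864da86a8a)), none, (some (wd 0x1a)), (some (wd 0x16)), none],
  [(some (wd 0x1b864db864a864bb86b)), none, (some (wd 0x18)), none, (some (wd 0x1c)), none],
  [(some (wd 0x16486cb86464b864b86)), none, none, (some (wd 0x16)), none, (some (wd 0x18)), (some (wd 0x16))],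
  [(some (wd 0x186a864a864a864a86b)), none, (some (wd 0x16)), none, none, (some (wd 0x1a))],
  [(some (wd 0x1864db864a864a864a8)), none, none, (some (wd 0x16)), none, (some (wd 0x16))],
  [(some (wd 0x1db86464a8646a8646)), none, none, none, (some (wd 0x18)), (some (wd 0x16))],
  [(some (wd 0x1648646a86468db8)), none, none, none],
  [(some (wd 0x10468a86)), none, none, none, none, none, none],
  [(some (wd 0x186b86464a864a864)), none, none, none],
  [(some (wd 0x186464bb8646b8646a8db)), none, none, (some (wd 0x1a)), (some (wd 0x1c)), none],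
  [(some (wd 0x1b86464a8646a8646c)), none, none, none, (some (wd 0x18)), (some (wd 0x16))],
  [(some (wd 0x148646ca864b8646a86b8b)), none, (some (wd 0x16)), none, (some (wd 0x1a)), (some (wd 0x16))],
  [(some (wd 0x1464b8b86b)), none, (some (wd 0x1c)), (some (wd 0x1c)), none, (some (wd 0x1a))],
  [(some (wd 0x14864b8646da864b86b8bd)), none, none, none, none, none, none],
  [(some (wd 0x10468b86)), none, none, none, none, none, none],
  [(some (wd 0x1464b8646b864a864a86b)), none, none, none, (some (wd 0x1a)), (some (wd 0x1a))],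
  [(some (wd 0x1468a8c)), none, none, none, none],
  [(some (wd 0x1a86464a8646a8cb86)), none, none, (some (wd 0x18)), none, (some (wd 0x18)), (some (wd 0x16))],
  [(some (wd 0x164a8646a864b864a8a86)), none, none, (some (wd 0x16)), (some (wd 0x1c)), none],
  [(some (wd 0x14a864a864a86da86464b8)), none, none, (some (wd 0x18)), none, (some (wd 0x16))],
  [(some (wd 0x1486a86464ca86a)), none, (some (wd 0x1c)), none, (some (wd 0x1a)), none],
  [(some (wd 0x10646864cb864a864b8b)), none, none, (some (wd 0x16)), (some (wd 0x1c)), none, (some (wd 0x1a))],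
  [(some (wd 0x1864b864bb864b864b86b8c)), none, (some (wd 0x1a)), (some (wd 0x1c)), none, none],
  [(some (wd 0x14648a864bb864a86b8ad)), none, (some (wd 0x1a)), (some (wd 0x18)), (some (wd 0x16)), none],
  [(some (wd 0x1864b864a8646da86a8)), none, none, (some (wd 0x16)), none, (some (wd 0x1a))]]

/-- Words to `u` from each coset and `P`. -/
def seg : List (List (Option (List ℕ))) := seg0 ++ seg1 ++ seg2 ++ seg3

theorem seg0_ok : allFrom 0 30 (checkGenU CSch.tab seg) = true := by decide +kernel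

theorem seg1_ok : allFrom 30 30 (checkGenU CSch.tab seg) = true := by decide +kernel

theorem seg2_ok : allFrom 60 30 (checkGenU CSch.tab seg) = true := by decide +kernel

theorem seg3_ok : allFrom 90 30 (checkGenU CSch.tab seg) = true := by decide +kernel

theorem pair0_ok : allFrom 0 15 (checkPair CSch.tab) = true := by decide +kernel

theorem pair1_ok : allFrom 15 15 (checkPair CSch.tab) = true := by decide +kernel

theorem pair2_ok : allFrom 30 15 (checkPair CSch.tab) = true := by decide +kernel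

theorem pair3_ok : allFrom 45 15 (checkPair CSch.tab) = true := by decide +kernel

theorem pair4_ok : allFrom 60 15 (checkPair CSch.tab) = true := by decide +kernel

theorem pair5_ok : allFrom 75 15 (checkPair CSch.tab) = true := by decide +kernel

theorem pair6_ok : allFrom 90 15 (checkPair CSch.tab) = true := by decide +kernel

theorem pair7_ok : allFrom 105 15 (checkPair CSch.tab) = true := by decide +kernel

theorem seg_ok : allBelow 120 (checkGenU CSch.tab seg) = true := allBelow_iff.2 fun i hi => by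
  by_cases h0 : i < 30
  · exact allFrom_iff.1 seg0_ok i (by omega) (by omega)
  by_cases h1 : i < 60
  · exact allFrom_iff.1 seg1_ok i (by omega) (by omega)
  by_cases h2 : i < 90
  · exact allFrom_iff.1 seg2_ok i (by omega) (by omega)
  exact allFrom_iff.1 seg3_ok i (by omega) (by omega)

theorem pair_ok : allBelow 120 (checkPair CSch.tab) = true := allBelow_iff.2 fun i hi => by
  by_cases h0 : i < 15
  · exact allFrom_iff.1 pair0_ok i (by omega) (by omega)
  by_cases h1 : i < 30
  · exact allFrom_iff.1 pair1_ok i (by omega) (by omega)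
  by_cases h2 : i < 45
  · exact allFrom_iff.1 pair2_ok i (by omega) (by omega)
  by_cases h3 : i < 60
  · exact allFrom_iff.1 pair3_ok i (by omega) (by omega)
  by_cases h4 : i < 75
  · exact allFrom_iff.1 pair4_ok i (by omega) (by omega)
  by_cases h5 : i < 90
  · exact allFrom_iff.1 pair5_ok i (by omega) (by omega)
  by_cases h6 : i < 105
  · exact allFrom_iff.1 pair6_ok i (by omega) (by omega)
  exact allFrom_iff.1 pair7_ok i (by omega) (by omega)

theorem prim_ok' : prim.check cert.C = true := by rw [cert_C]; exact prim_ok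

theorem back_ok' : flagsBack cert.C = true := by rw [cert_C]; exact back_ok

theorem seg_ok' : allBelow 120 (checkGenU cert.C.D.T seg) = true := by rw [cert_T]; exact seg_ok

theorem pair_ok' : allBelow 120 (checkPair cert.C.D.T) = true := by rw [cert_T]; exact pair_ok

/-- A count. -/
def count1 : CountCert where
  pos := 1
  f := 2
  n := 768
  els := [(wd 0x1), (wd 0x104a8b), (wd 0x104c), (wd 0x104d), (wd 0x1a8bc), (wd 0x1a8bd), (wd 0x1ca8b), (wd 0x1d), (wd 0x1da8b), (wd 0x1c), (wd 0x104cb8a), (wd 0x104a8bd), (wd 0x104b8ad), (wd 0x104a8bc), (wd 0x1048b8ad), (wd 0x1048b8a), (wd 0x104da8b), (wd 0x104), (wd 0x104aa8bb), (wd 0x1048cb8a), (wd 0x104ca8b), (wd 0x18da8b), (wd 0x1cb8ad), (wd 0x1b8ad), (wd 0x1a8b), (wd 0x1b8a), (wd 0x1b8ac), (wd 0x1cb8a), (wd 0x1db8a), (wd 0x18b8a), (wd 0x18b8ad), (wd 0x1aa8bb), (wd 0x18cb8a), (wd 0x18a8bc), (wd 0x1048d), (wd 0x104cb8ad), (wd 0x1048da8b), (wd 0x104b8a), (wd 0x104b8ac), (wd 0x1048c), (wd 0x1048a8b), (wd 0x1048a8bc), (wd 0x104db8a),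 (wd 0x18), (wd 0x18c), (wd 0x18d), (wd 0x18a8b), (wd 0x1048)]
  wit := [(wg 0x1), (wg 0x10), (wg 0x12), (wg 0x13), (wg 0x102), (wg 0x103), (wg 0x120), (wg 0x122), (wg 0x130), (wg 0x133), (wg 0x1020), (wg 0x1022), (wg 0x1030), (wg 0x1033), (wg 0x1202), (wg 0x1203), (wg 0x1220), (wg 0x1222), (wg 0x1302), (wg 0x1303), (wg 0x1330), (wg 0x10202), (wg 0x10203), (wg 0x10220), (wg 0x10222), (wg 0x10302), (wg 0x10303), (wg 0x10330), (wg 0x12020), (wg 0x12022), (wg 0x12033), (wg 0x12202), (wg 0x12203), (wg 0x13030), (wg 0x102020), (wg 0x102022), (wg 0x102033), (wg 0x102202), (wg 0x102203), (wg 0x103030), (wg 0x120202), (wg 0x120203), (wg 0x120330), (wg 0x1020202), (wg 0x1020203), (wg 0x1020330), (wg 0x1202033), (wg 0x10202033)]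
  nxt := [[1, 2], [0, 4], [6, 7], [8, 0], [10, 11], [12, 1], [2, 14], [16, 17], [3, 18], [20, 3], [4, 21], [23, 24], [5, 25], [27, 5], [28, 29], [22, 6], [7, 31], [24, 9], [25, 32], [33, 8], [9, 30], [34, 35], [15, 10], [11, 37], [17, 13], [18, 38], [39, 12], [13, 36], [14, 40], [35, 20], [42, 15], [37, 19], [41, 16], [19, 42], [21, 43], [29, 27], [45, 22], [31, 26], [44, 23], [26, 45], [43, 33], [32, 28], [30, 46], [40, 39], [38, 34], [36, 47], [47, 41], [46, 44]]

theorem count1_ok : count1.check model = true := by decide +kernel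

theorem card1 : Nat.card (pSide.stab (cert.C.vtx (cert.nd 1))) = 36864 := by
  have h : count1.check cert.C = true := by rw [cert_C]; exact count1_ok
  have e : count1.n * count1.els.length = 36864 := by decide +kernel
  exact (cert.card_stab h).trans e

/-- A count. -/
def count2 : CountCert where
  pos := 2
  f := 6
  n := 512
  els := [(wd 0x1), (wd 0x14646b86a86464cb), (wd 0x14646a86da86464a), (wd 0x10468646c), (wd 0x10646864d), (wd 0x1464cb864a864ca), (wd 0x146468a864da864b), (wd 0x1464a864aa864bb), (wd 0x1464a864da864bd), (wd 0x1464b8b864b864aa), (wd 0x1464b864a864ca), (wd 0x1464a864da864b), (wd 0x14648a864bb864a), (wd 0x14646bb864b864bb), (wd 0x146486b864a864ca), (wd 0x10468646), (wd 0x14646a864bb864a), (wd 0x1c), (wd 0x1d), (wd 0x10646864), (wd 0x146486a864da864b), (wd 0x10646864c), (wd 0x10468646d), (wd 0x1464a86bb86464b), (wd 0x1464aa864ca864b), (wd 0x146468b864a864ca), (wd 0x1464b864a864bdb)]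
  wit := [(wg 0x1), (wg 0x10), (wg 0x11), (wg 0x12), (wg 0x13), (wg 0x100), (wg 0x102), (wg 0x103), (wg 0x111), (wg 0x112), (wg 0x113), (wg 0x120), (wg 0x121), (wg 0x130), (wg 0x131), (wg 0x1000), (wg 0x1002), (wg 0x1021), (wg 0x1031), (wg 0x1111), (wg 0x1112), (wg 0x1120), (wg 0x1130), (wg 0x1202), (wg 0x1203), (wg 0x1212), (wg 0x1213)]
  nxt := [[1, 3], [5, 6], [0, 9], [11, 4], [13, 0], [15, 16], [12, 7], [10, 1], [2, 20], [21, 10], [22, 2], [9, 23], [3, 25], [25, 8], [4, 5], [24, 21], [17, 14], [6, 22], [7, 15], [8, 17], [16, 13], [20, 18], [23, 19], [14, 24], [26, 11], [18, 26], [19, 12]]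

theorem count2_ok : count2.check model = true := by decide +kernel

theorem card2 : Nat.card (pSide.stab (cert.C.vtx (cert.nd 2))) = 13824 := by
  have h : count2.check cert.C = true := by rw [cert_C]; exact count2_ok
  have e : count2.n * count2.els.length = 13824 := by decide +kernel
  exact (cert.card_stab h).trans e

/-- A count. -/
def count3 : CountCert where
  pos := 3
  f := 19
  n := 288
  els := [(wd 0x1)]
  wit := [(wg 0x1)]
  nxt := [[]]

theorem count3_ok : count3.check model = true := by decide +kernel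

theorem card3 : Nat.card (pSide.stab (cert.C.vtx (cert.nd 3))) = 288 := by
  have h : count3.check cert.C = true := by rw [cert_C]; exact count3_ok
  have e : count3.n * count3.els.length = 288 := by decide +kernel
  exact (cert.card_stab h).trans e

/-- A count. -/
def count4 : CountCert where
  pos := 4
  f := 14
  n := 243
  els := [(wd 0x1), (wd 0x108b8646b8646a8a8)]
  wit := [(wg 0x1), (wg 0x10)]
  nxt := [[1], [0]]

theorem count4_ok : count4.check model = true := by decide +kernel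

theorem card4 : Nat.card (pSide.stab (cert.C.vtx (cert.nd 4))) = 486 := by
  have h : count4.check cert.C = true := by rw [cert_C]; exact count4_ok
  have e : count4.n * count4.els.length = 486 := by decide +kernel
  exact (cert.card_stab h).trans e

/-- A count. -/
def count5 : CountCert where
  pos := 5
  f := 29
  n := 126
  els := [(wd 0x1)]
  wit := [(wg 0x1)]
  nxt := [[]]

theorem count5_ok : count5.check model = true := by decide +kernel

theorem card5 : Nat.card (pSide.stab (cert.C.vtx (cert.nd 5))) = 126 := by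
  have h : count5.check cert.C = true := by rw [cert_C]; exact count5_ok
  have e : count5.n * count5.els.length = 126 := by decide +kernel
  exact (cert.card_stab h).trans e

/-- A count. -/
def count6 : CountCert where
  pos := 6
  f := 37
  n := 78
  els := [(wd 0x1)]
  wit := [(wg 0x1)]
  nxt := [[]]

theorem count6_ok : count6.check model = true := by decide +kernel

theorem card6 : Nat.card (pSide.stab (cert.C.vtx (cert.nd 6))) = 78 := by
  have h : count6.check cert.C = true := by rw [cert_C]; exact count6_ok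
  have e : count6.n * count6.els.length = 78 := by decide +kernel
  exact (cert.card_stab h).trans e

/-- A count. -/
def count7 : CountCert where
  pos := 7
  f := 73
  n := 54
  els := [(wd 0x1)]
  wit := [(wg 0x1)]
  nxt := [[]]

theorem count7_ok : count7.check model = true := by decide +kernel

theorem card7 : Nat.card (pSide.stab (cert.C.vtx (cert.nd 7))) = 54 := by
  have h : count7.check cert.C = true := by rw [cert_C]; exact count7_ok
  have e : count7.n * count7.els.length = 54 := by decide +kernel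
  exact (cert.card_stab h).trans e

/-- A count. -/
def count8 : CountCert where
  pos := 8
  f := 93
  n := 6
  els := [(wd 0x1)]
  wit := [(wg 0x1)]
  nxt := [[]]

theorem count8_ok : count8.check model = true := by decide +kernel

theorem card8 : Nat.card (pSide.stab (cert.C.vtx (cert.nd 8))) = 6 := by
  have h : count8.check cert.C = true := by rw [cert_C]; exact count8_ok
  have e : count8.n * count8.els.length = 6 := by decide +kernel
  exact (cert.card_stab h).trans e

/-- A count. -/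
def count9 : CountCert where
  pos := 9
  f := 52
  n := 72
  els := [(wd 0x1)]
  wit := [(wg 0x1)]
  nxt := [[]]

theorem count9_ok : count9.check model = true := by decide +kernel

theorem card9 : Nat.card (pSide.stab (cert.C.vtx (cert.nd 9))) = 72 := by
  have h : count9.check cert.C = true := by rw [cert_C]; exact count9_ok
  have e : count9.n * count9.els.length = 72 := by decide +kernel
  exact (cert.card_stab h).trans e

/-- A count. -/
def count10 : CountCert where
  pos := 10
  f := 8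
  n := 588
  els := [(wd 0x1), (wd 0x14686b8646a8646a8d), (wd 0x18646cb86468b864b8), (wd 0x1468646b8646b864c), (wd 0x1468646da8646a864), (wd 0x14864ca864b864b864a8d)]
  wit := [(wg 0x1), (wg 0x10), (wg 0x11), (wg 0x100), (wg 0x111), (wg 0x1000)]
  nxt := [[1], [3], [0], [5], [2], [4]]

theorem count10_ok : count10.check model = true := by decide +kernel

theorem card10 : Nat.card (pSide.stab (cert.C.vtx (cert.nd 10))) = 3528 := by
  have h : count10.check cert.C = true := by rw [cert_C]; exact count10_ok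
  have e : count10.n * count10.els.length = 3528 := by decide +kernel
  exact (cert.card_stab h).trans e

end Cfsg.Agent.Lib.ThDce.Data
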