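import Cfsg.Agent.Lib.ThDce.Data.Facts
import Cfsg.Agent.Lib.ThDce.Data.Flags
import Cfsg.Agent.Lib.ThDce.Data.V0
import Cfsg.Agent.Lib.ThDce.Data.V1
import Cfsg.Agent.Lib.ThDce.Data.V2
import Cfsg.Agent.Lib.ThDce.Data.V3
import Cfsg.Agent.Lib.ThDce.Data.V4
import Cfsg.Agent.Lib.ThDce.Data.V5
import Cfsg.Agent.Lib.ThDce.Data.V6
import Cfsg.Agent.Lib.ThDce.Data.V7
import Cfsg.Agent.Lib.ThDce.Data.V8
import Cfsg.Agent.Lib.ThDce.Data.V9
import Cfsg.Agent.Lib.ThDce.Data.V10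
import Cfsg.Agent.Lib.ThDce.Data.V11
import Cfsg.Agent.Lib.ThDce.Data.V12
import Cfsg.Agent.Lib.ThDce.Data.V13
import Cfsg.Agent.Lib.ThDce.Data.V14
import Cfsg.Agent.Lib.ThDce.Data.V15
import Cfsg.Agent.Lib.ThDce.Data.V16
import Cfsg.Agent.Lib.ThDce.Data.V17
import Cfsg.Agent.Lib.ThDce.Data.V18
import Cfsg.Agent.Lib.ThDce.Data.V19
import Cfsg.Agent.Lib.ThDce.Data.V20
import Cfsg.Agent.Lib.ThDce.Data.V21
import Cfsg.Agent.Lib.ThDce.Data.V22
import Cfsg.Agent.Lib.ThDce.Data.V23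

/-! Generated certificate. -/

set_option autoImplicit false
set_option maxRecDepth 20000
set_option Elab.async false

namespace Cfsg.Agent.Lib.ThDce.Data

open Cfsg.Agent.Lib.CosetEnum

/-- The certificate data. -/
def model : Model where
  D := dData
  V := [v0, v1, v2, v3, v4, v5, v6, v7, v8, v9, v10, v11, v12, v13, v14, v15, v16, v17, v18, v19, v20, v21, v22, v23]
  gfact := [[23, 24, 25, 26, 27, 28, 29], [352, 353, 354, 355, 356, 357], [32, 34, 36, 42, 50], [38, 39, 43, 52, 57, 61], [53, 68, 72, 81], [44, 45, 46, 51, 62], [47, 48, 63, 67], [95, 101], [82, 83, 93, 97, 117], [134, 136], [179], [124, 144], [171, 184], [84, 88, 113], [85, 90, 121], [105, 107, 109], [86, 99], [73, 218], [49, 74, 75, 115], [76, 191], [77, 292], [281], [78, 338, 351], [79, 80, 125, 347]]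
  flags := flags
  nodes := [0, 2, 3, 6, 8, 13, 14, 15, 16, 19, 23]
  M := 358

end Cfsg.Agent.Lib.ThDce.Data
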