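import Cfsg.Agent.Lib.ThDce.Data.Facts

/-! Checks of the equations. -/

set_option autoImplicit false
set_option maxRecDepth 20000
set_option Elab.async false

namespace Cfsg.Agent.Lib.ThDce.Data

open Cfsg.Agent.Lib.CosetEnum

theorem walks3_0 : allFrom 270 8 dData.check = true := by decide +kernel

theorem walks3_1 : allFrom 278 8 dData.check = true := by decide +kernel

theorem walks3_2 : allFrom 286 8 dData.check = true := by decide +kernel

theorem walks3_3 : allFrom 294 8 dData.check = true := by decide +kernel

theorem walks3_4 : allFrom 302 8 dData.check = true := by decide +kernel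

theorem walks3_5 : allFrom 310 8 dData.check = true := by decide +kernel

theorem walks3_6 : allFrom 318 8 dData.check = true := by decide +kernel

theorem walks3_7 : allFrom 326 8 dData.check = true := by decide +kernel

theorem walks3_8 : allFrom 334 8 dData.check = true := by decide +kernel

theorem walks3_9 : allFrom 342 8 dData.check = true := by decide +kernel

theorem walks3_10 : allFrom 350 8 dData.check = true := by decide +kernel

theorem walks3 : ∀ i, 270 ≤ i → i < 358 → dData.check i = true := by
  intro i h0 h1
  by_cases h0a : i < 278
  · exact allFrom_iff.1 walks3_0 i (by omega) (by omega)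
  by_cases h1a : i < 286
  · exact allFrom_iff.1 walks3_1 i (by omega) (by omega)
  by_cases h2a : i < 294
  · exact allFrom_iff.1 walks3_2 i (by omega) (by omega)
  by_cases h3a : i < 302
  · exact allFrom_iff.1 walks3_3 i (by omega) (by omega)
  by_cases h4a : i < 310
  · exact allFrom_iff.1 walks3_4 i (by omega) (by omega)
  by_cases h5a : i < 318
  · exact allFrom_iff.1 walks3_5 i (by omega) (by omega)
  by_cases h6a : i < 326
  · exact allFrom_iff.1 walks3_6 i (by omega) (by omega)
  by_cases h7a : i < 334
  · exact allFrom_iff.1 walks3_7 i (by omega) (by omega)
  by_cases h8a : i < 342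
  · exact allFrom_iff.1 walks3_8 i (by omega) (by omega)
  by_cases h9a : i < 350
  · exact allFrom_iff.1 walks3_9 i (by omega) (by omega)
  by_cases h10a : i < 358
  · exact allFrom_iff.1 walks3_10 i (by omega) (by omega)
  omega

end Cfsg.Agent.Lib.ThDce.Data
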